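import Mathlib
import Groth.Prelude.Def_CohB1

/-!
# Definitions for the f.p. extension lemma (Stacks 01PI; S2115)
-/

set_option autoImplicit false
universe u
open CategoryTheory CategoryTheory.Limits AlgebraicGeometry TopologicalSpace Opposite

namespace Groth.Agent.H22.FPExt

variable {X : Scheme.{u}}

/-- `ψ` is bijective on sections over every open contained in `W`. -/
def BijOn {A B : X.Modules} (ψ : A ⟶ B) (W : X.Opens) : Prop :=
  ∀ O : X.Opens, O ≤ W → Function.Bijective (ψ.app O)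

/-- `M` is finitely presented near every point of `W`, witnessed on affine opens inside `W`. -/
def FPOn (M : X.Modules) (W : X.Opens) : Prop :=
  ∀ x ∈ W, ∃ O : X.Opens, IsAffineOpen O ∧ x ∈ O ∧ O ≤ W ∧
    Module.FinitePresentation Γ(X, O) Γ(M, O)

lemma FPOn.sup {M : X.Modules} {W V : X.Opens} (hW : FPOn M W) (hV : FPOn M V) :
    FPOn M (W ⊔ V) := fun x hx => by
  rcases (Opens.mem_sup.mp hx) with h | h
  · obtain ⟨O, h1, h2, h3, h4⟩ := hW x h
    exact ⟨O, h1, h2, h3.trans le_sup_left, h4⟩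
  · obtain ⟨O, h1, h2, h3, h4⟩ := hV x h
    exact ⟨O, h1, h2, h3.trans le_sup_right, h4⟩

lemma BijOn.mono {A B : X.Modules} {ψ : A ⟶ B} {W W' : X.Opens} (h : BijOn ψ W) (hW : W' ≤ W) :
    BijOn ψ W' := fun O hO => h O (hO.trans hW)

lemma BijOn.comp {A B C : X.Modules} {ψ : A ⟶ B} {χ : B ⟶ C} {W : X.Opens} (h : BijOn ψ W)
    (h' : BijOn χ W) : BijOn (ψ ≫ χ) W := fun O hO => by
  have : (ψ ≫ χ).app O = ψ.app O ≫ χ.app O := rfl
  rw [this]
  exact (h' O hO).comp (h O hO)

end Groth.Agent.H22.FPExt
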