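import Mathlib
import Groth.Prelude.Def_CohB1
import Groth.Agent.H22.FPExt.Defs
import Groth.Agent.H97.FPExt_P3
import Groth.Agent.H76.FPExt_P2
import Groth.Agent.H77.FPExt_P1
import Groth.Agent.H27.FPExt_P10
import Groth.Agent.H8.QCohPush
import Groth.Agent.H22.QCohLimits
import Groth.Agent.H42.CmpLib
import Groth.Agent.S9818

set_option autoImplicit false
set_option linter.style.haveILetI false
universe u
open CategoryTheory CategoryTheory.Limits AlgebraicGeometry TopologicalSpace Opposite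
open AlgebraicGeometry.Scheme.Modules
open Groth.Agent.H22.FPExt

namespace Groth.Agent.H22.FPExt

open Groth.Agent.H97.FPExt_P3 Groth.Agent.H76.FPExt_P2 Groth.Agent.H77.FPExt_P1
  Groth.Agent.H27.FPExt_P10

variable {X : Scheme.{u}}

/-- The pullback construction of S9818 for a general quasi-compact open immersion, with the extra
information that the map is an isomorphism wherever the pushed-forward map is. -/
theorem ext_plus {Y : Scheme.{u}} (j : Y ⟶ X) [IsOpenImmersion j] [QuasiCompact j]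
    (F : X.Modules) [F.IsQuasicoherent] (G : Y.Modules) [G.IsQuasicoherent]
    (φ : G ⟶ (restrictFunctor j).obj F) :
    ∃ (H : X.Modules) (ψ : H ⟶ F) (_ : (restrictFunctor j).obj H ≅ G), H.IsQuasicoherent ∧
      ∀ W : X.Opens, IsIso ((restrictFunctor W.ι).map ((pushforward j).map φ)) →
        IsIso ((restrictFunctor W.ι).map ψ) := by
  let R := restrictFunctor j
  let P := pushforward j
  let adj := restrictAdjunction j
  let a : F ⟶ P.obj (R.obj F) := adj.unit.app F
  let b : P.obj G ⟶ P.obj (R.obj F) := P.map φ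
  haveI : (R.obj F).IsQuasicoherent := inferInstance
  haveI : (P.obj (R.obj F)).IsQuasicoherent :=
    Groth.Agent.H8.isQuasicoherent_pushforward j (R.obj F)
  haveI : (P.obj G).IsQuasicoherent := Groth.Agent.H8.isQuasicoherent_pushforward j G
  have h5 : R.map a ≫ adj.counit.app (R.obj F) = 𝟙 _ := adj.left_triangle_components F
  have hRa : IsIso (R.map a) := by
    have h2 : IsIso (R.map a ≫ adj.counit.app (R.obj F)) := by rw [h5]; infer_instance
    exact IsIso.of_isIso_comp_right (R.map a) (adj.counit.app (R.obj F))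
  haveI : PreservesFiniteLimits R := Groth.Agent.H42.CmpLib.preservesFiniteLimits_restrictFunctor j
  let e1 : R.obj (pullback a b) ≅ pullback (R.map a) (R.map b) := PreservesPullback.iso R a b
  haveI : IsIso (pullback.snd (R.map a) (R.map b)) := inferInstance
  refine ⟨pullback a b, pullback.fst a b,
    e1 ≪≫ asIso (pullback.snd (R.map a) (R.map b)) ≪≫ asIso (adj.counit.app G),
    Groth.Agent.H22.QCohLimits.isQuasicoherent_pullback a b, ?_⟩
  intro W hW
  let RW := restrictFunctor W.ι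
  haveI : PreservesFiniteLimits RW :=
    Groth.Agent.H42.CmpLib.preservesFiniteLimits_restrictFunctor W.ι
  haveI : IsIso (RW.map b) := hW
  have h3 : RW.map (pullback.fst a b) =
      (PreservesPullback.iso RW a b).hom ≫ pullback.fst (RW.map a) (RW.map b) :=
    (PreservesPullback.iso_hom_fst RW a b).symm
  haveI : IsIso (pullback.fst (RW.map a) (RW.map b)) := inferInstance
  show IsIso (RW.map (pullback.fst a b))
  rw [h3]
  infer_instance

end Groth.Agent.H22.FPExt

namespace Groth.Agent.H22.FPExt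

open Groth.Agent.H97.FPExt_P3 Groth.Agent.H76.FPExt_P2 Groth.Agent.H77.FPExt_P1
  Groth.Agent.H27.FPExt_P10

variable {X : Scheme.{u}}

/-- An open immersion with quasi-compact image into a quasi-separated scheme is quasi-compact. -/
theorem quasiCompact_of_isCompact_range [QuasiSeparatedSpace X] {Y : Scheme.{u}} (j : Y ⟶ X)
    [IsOpenImmersion j] (h : IsCompact (Set.range j)) : QuasiCompact j := by
  constructor
  intro U hU hU'
  have h1 : IsCompact (U ∩ Set.range j) :=
    QuasiSeparatedSpace.inter_isCompact _ _ hU hU' j.isOpenEmbedding.isOpen_range h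
  have h2 : j ⁻¹' U = j ⁻¹' (U ∩ Set.range j) := by
    ext y
    simp
  rw [h2]
  exact j.isOpenEmbedding.isEmbedding.isInducing.isCompact_preimage' h1 Set.inter_subset_right

theorem isFP_of_iso {A B : X.Modules} (e : A ≅ B) (h : CohB1.IsFP A) : CohB1.IsFP B :=
  (SheafOfModules.isFinitePresentation X.ringCatSheaf).prop_of_iso e h

theorem step [QuasiSeparatedSpace X] (G : X.Modules) [G.IsQuasicoherent] (W : X.Opens)
    (hW : IsCompact (W : Set X)) (hG : FPOn G W) (V : X.Opens) (hV : IsAffineOpen V) :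
    ∃ (G' : X.Modules) (ψ : G' ⟶ G), G'.IsQuasicoherent ∧ BijOn ψ W ∧ FPOn G' (W ⊔ V) := by
  let j : Spec Γ(X, V) ⟶ X := hV.fromSpec
  haveI : QuasiCompact j := quasiCompact_of_isCompact_range j (by
    rw [hV.range_fromSpec]; exact hV.isCompact)
  let FV := (restrictFunctor j).obj G
  haveI : FV.IsQuasicoherent := inferInstance
  have hW' : IsCompact ((j ⁻¹ᵁ W : (Spec Γ(X, V)).Opens) : Set (Spec Γ(X, V))) :=
    QuasiCompact.isCompact_preimage (f := j) W W.2 hW
  have hFV : FPOn FV (j ⁻¹ᵁ W) := fpOn_restrict j G W hG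
  obtain ⟨GV, φ, hGV, hφ⟩ := spec_case Γ(X, V) FV (j ⁻¹ᵁ W) hW' hFV
  haveI : SheafOfModules.IsFinitePresentation (R := (Spec Γ(X, V)).ringCatSheaf) GV := hGV
  haveI : GV.IsQuasicoherent := inferInstance
  obtain ⟨G', ψ, e, hq, hiso⟩ := ext_plus j G GV φ
  have h1 : IsIso ((restrictFunctor W.ι).map ψ) :=
    hiso W (isIso_restrict_pushforward_of_bijOn j W φ hφ)
  have h2 : BijOn ψ W := (isIso_restrict_iff_bijOn ψ W).mp h1
  refine ⟨G', ψ, hq, h2, FPOn.sup (fpOn_of_bijOn ψ W h2 hG) ?_⟩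
  have h3 : CohB1.IsFP ((restrictFunctor j).obj G') := isFP_of_iso e.symm hGV
  have h4 := fpOn_of_isFP_restrict j G' h3
  rwa [hV.opensRange_fromSpec] at h4

end Groth.Agent.H22.FPExt

namespace Groth.Agent.H22.FPExt

open Groth.Agent.H97.FPExt_P3 Groth.Agent.H76.FPExt_P2 Groth.Agent.H77.FPExt_P1
  Groth.Agent.H27.FPExt_P10

variable {X : Scheme.{u}}

/-- The union of a list of affine opens. -/
def listSup (l : List X.affineOpens) : X.Opens := l.foldr (fun W acc => W.1 ⊔ acc) ⊥

lemma le_listSup {l : List X.affineOpens} {W : X.affineOpens} (h : W ∈ l) : W.1 ≤ listSup l := by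
  induction l with
  | nil => cases h
  | cons W' l ih =>
    rcases List.mem_cons.mp h with rfl | h'
    · exact le_sup_left
    · exact (ih h').trans le_sup_right

lemma bijOn_id (A : X.Modules) (W : X.Opens) : BijOn (𝟙 A) W := fun O _ => by
  have : (𝟙 A : A ⟶ A).app O = 𝟙 _ := rfl
  rw [this]
  exact Function.bijective_id

theorem star_list [QuasiSeparatedSpace X] (l : List X.affineOpens) :
    ∀ (H : X.Modules) (_ : H.IsQuasicoherent) (U : X.Opens) (_ : IsCompact (U : Set X))
      (_ : FPOn H U),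
    ∃ (G' : X.Modules) (ψ : G' ⟶ H), G'.IsQuasicoherent ∧ BijOn ψ U ∧
      FPOn G' (U ⊔ listSup l) := by
  induction l with
  | nil =>
    intro H hH U hU hHU
    refine ⟨H, 𝟙 H, hH, bijOn_id H U, ?_⟩
    have h1 : U ⊔ listSup ([] : List X.affineOpens) = U := sup_bot_eq U
    rw [h1]
    exact hHU
  | cons W l ih =>
    intro H hH U hU hHU
    obtain ⟨G₁, ψ₁, hq₁, hb₁, hfp₁⟩ := step H U hU hHU W.1 W.2
    obtain ⟨G', ψ', hq', hb', hfp'⟩ :=
      ih G₁ hq₁ (U ⊔ W.1) (hU.union W.2.isCompact) hfp₁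
    refine ⟨G', ψ' ≫ ψ₁, hq', (hb'.mono le_sup_left).comp hb₁, ?_⟩
    have h1 : U ⊔ listSup (W :: l) = (U ⊔ W.1) ⊔ listSup l := by
      show U ⊔ (W.1 ⊔ listSup l) = _
      rw [sup_assoc]
    rw [h1]
    exact hfp'

theorem star [CompactSpace X] [QuasiSeparatedSpace X] (H : X.Modules) [H.IsQuasicoherent]
    (U : X.Opens) (hU : IsCompact (U : Set X)) (hH : FPOn H U) :
    ∃ (G' : X.Modules) (ψ : G' ⟶ H), CohB1.IsFP G' ∧ BijOn ψ U := by
  obtain ⟨S, hSfin, hS⟩ := (isCompact_and_isOpen_iff_finite_and_eq_biUnion_affineOpens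
    (X := X) (U := Set.univ)).mp ⟨isCompact_univ, isOpen_univ⟩
  obtain ⟨G', ψ, hq, hb, hfp⟩ := star_list hSfin.toFinset.toList H inferInstance U hU hH
  have htop : U ⊔ listSup hSfin.toFinset.toList = ⊤ := by
    rw [eq_top_iff]
    intro p _
    have hp : p ∈ (Set.univ : Set X) := trivial
    rw [hS] at hp
    obtain ⟨V, hV, hpV⟩ := Set.mem_iUnion₂.mp hp
    exact Opens.mem_sup.mpr (Or.inr
      (le_listSup (Finset.mem_toList.mpr (hSfin.mem_toFinset.mpr hV)) hpV))
  rw [htop] at hfp
  haveI := hq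
  exact ⟨G', ψ, isFP_of_fpOn_top G' hfp, hb⟩

/-- Stacks 01PI. -/
theorem fp_extension (X : Scheme.{u}) [CompactSpace X] [QuasiSeparatedSpace X]
    (F : X.Modules) (hF : Coh.IsQCoh F) (U : X.Opens) (hU : IsCompact (U : Set X))
    (G : (U : Scheme.{u}).Modules)
    (hG : CohB1.IsFP G) (φ : G ⟶ F.restrict U.ι) :
    ∃ (G' : X.Modules) (φ' : G' ⟶ F) (e : G'.restrict U.ι ≅ G), CohB1.IsFP G' ∧
      e.hom ≫ φ = (Scheme.Modules.restrictFunctor U.ι).map φ' := by
  haveI : QuasiCompact U.ι := quasiCompact_of_isCompact_range U.ι (by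
    rw [Scheme.Opens.range_ι]; exact hU)
  haveI : Coh.IsQCoh F := hF
  haveI : SheafOfModules.IsFinitePresentation (R := (U : Scheme.{u}).ringCatSheaf) G := hG
  haveI : Coh.IsQCoh G := (inferInstance : G.IsQuasicoherent)
  obtain ⟨H, ψ₀, e₀, hHq, hcomp⟩ := Groth.Agent.S9818.result U F G φ
  haveI : H.IsQuasicoherent := hHq
  have hHU : FPOn H U := by
    have := fpOn_of_isFP_restrict U.ι H (isFP_of_iso e₀.symm hG)
    rwa [Scheme.Opens.opensRange_ι] at this
  obtain ⟨G', ψ, hfp, hb⟩ := star H U hU hHU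
  haveI : IsIso ((restrictFunctor U.ι).map ψ) := (isIso_restrict_iff_bijOn ψ U).mpr hb
  refine ⟨G', ψ ≫ ψ₀, asIso ((restrictFunctor U.ι).map ψ) ≪≫ e₀, hfp, ?_⟩
  simp only [Iso.trans_hom, asIso_hom, Category.assoc, hcomp, Functor.map_comp]

end Groth.Agent.H22.FPExt
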