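import Mathlib
import Groth.Prelude.Def_CohB1
import Groth.Prelude.Def_Coh
import Groth.Agent.H30.FPExt_Q1
import Groth.Agent.H89.FPExt_Q2
import Groth.Agent.H37.FPExt_Q3
import Groth.Agent.H37.FPExt_Q5
import Groth.Agent.H11.FPExt_Q4
import Groth.Agent.H19.FPExt_Q6
import Groth.Agent.S2115
import Groth.Agent.H22.QCohLimits
import Groth.Agent.H41.ModGlue
import Groth.Agent.S9819

set_option autoImplicit false
set_option linter.style.haveILetI false
universe u
open CategoryTheory CategoryTheory.Limits AlgebraicGeometry TopologicalSpace Opposite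
open AlgebraicGeometry.Scheme.Modules

namespace Groth.Agent.H22.FPExt

open Groth.Agent.H37.FPExt_Q5 Groth.Agent.H11.FPExt_Q4 Groth.Agent.H19.FPExt_Q6

variable {X : Scheme.{u}}

/-- A morphism out of a quasi-coherent module vanishing on all sections over affine opens is zero. -/
theorem eq_zero_of_affine_sections {K T : X.Modules} [K.IsQuasicoherent] (t : K ⟶ T)
    (h : ∀ (V : X.affineOpens) (s : Γ(K, V.1)), t.app V.1 s = 0) : t = 0 := by
  refine Groth.Agent.H41.ModGlue.hom_ext_of_affine_cover t 0 (fun V : X.affineOpens => V.1)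
    ?_ (fun V => V.2) ?_
  · exact (Scheme.isBasis_affineOpens X).isOpenCover
  · intro V x
    rw [h V x]
    rfl

theorem ft_directed_colimit [CompactSpace X] [QuasiSeparatedSpace X] (F : X.Modules)
    [F.IsQuasicoherent] (hF : CohB1.IsFT F) :
    ∃ (J : Type u) (_ : PartialOrder J) (_ : IsDirected J (· ≤ ·)) (_ : Nonempty J)
      (D : J ⥤ X.Modules) (ι : D ⟶ (Functor.const J).obj F),
      Nonempty (IsColimit (Cocone.mk F ι)) ∧
      (∀ j, CohB1.IsFP (D.obj j)) ∧ ∀ (j j' : J) (h : j ⟶ j'), Epi (D.map h) := by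
  classical
  haveI : HasFiniteBiproducts X.Modules := Abelian.hasFiniteBiproducts
  obtain ⟨G, φ, hG, hφ⟩ := Groth.Agent.H89.FPExt_Q2.exists_fp_epi_of F hF
    (fun V hV s => Groth.Agent.H30.FPExt_Q1.exists_fp_through_section_of F V hV s
      (fun U hU G hG φ => Groth.Agent.S2115.result X F ‹F.IsQuasicoherent› U hU G hG φ))
    Groth.Agent.H37.FPExt_Q3.isFP_biprod
  haveI : SheafOfModules.IsFinitePresentation (R := X.ringCatSheaf) G := hG
  haveI : G.IsQuasicoherent := inferInstance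
  haveI : (kernel φ).IsQuasicoherent := Groth.Agent.H22.QCohLimits.isQuasicoherent_kernel φ
  haveI : Coh.IsQCoh (kernel φ) := ‹(kernel φ).IsQuasicoherent›
  let A : Type u := Σ V : X.affineOpens, Γ(kernel φ, V.1)
  choose Kc ic hmono hqc hft g hg using fun a : A =>
    Groth.Agent.S9819.result (kernel φ) a.1 a.2
  let i : ∀ a : A, Kc a ⟶ G := fun a => ic a ≫ kernel.ι φ
  have hi : ∀ a, i a ≫ φ = 0 := fun a => by
    simp only [i, Category.assoc, kernel.condition, comp_zero]
  have hgen : ∀ (T : X.Modules) (t : G ⟶ T), (∀ a, i a ≫ t = 0) → kernel.ι φ ≫ t = 0 := by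
    intro T t ht
    refine eq_zero_of_affine_sections _ ?_
    intro V s
    have h1 := ht ⟨V, s⟩
    have h2 : (ic ⟨V, s⟩).app V.1 (g ⟨V, s⟩) = s := hg ⟨V, s⟩
    rw [← h2]
    have h3 : (kernel.ι φ ≫ t).app V.1 ((ic ⟨V, s⟩).app V.1 (g ⟨V, s⟩)) =
        ((ic ⟨V, s⟩ ≫ kernel.ι φ) ≫ t).app V.1 (g ⟨V, s⟩) := rfl
    rw [h3, h1]
    rfl
  have hP : ∀ j : Finset A,
      CohB1.IsFP (cokernel (biproduct.desc (fun a : j => i a.1))) := by
    intro j
    obtain ⟨h1, h2⟩ := isQCoh_isFT_biproduct (fun a : j => Kc a.1) (fun a => hqc a.1)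
      (fun a => hft a.1)
    haveI := h1
    exact isFP_cokernel_of_isFT h2 hG _
  obtain ⟨D, ι, hcol, hD, hepi⟩ :=
    exists_directed_colimit_of_generated φ Kc i hi hgen (fun M => CohB1.IsFP M) hP
  exact ⟨Finset A, inferInstance, inferInstance, inferInstance, D, ι, hcol, hD, hepi⟩

end Groth.Agent.H22.FPExt
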