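import Mathlib
import Groth.Prelude.Def_CohB1
import Groth.Prelude.Def_Coh
import Groth.Agent.H37.FPExt_R1
import Groth.Agent.H17.FPExt_R2
import Groth.Agent.H22.FPExt.Main2
import Groth.Agent.S10848

set_option autoImplicit false
set_option linter.style.haveILetI false
universe u
open CategoryTheory CategoryTheory.Limits AlgebraicGeometry TopologicalSpace Opposite
open AlgebraicGeometry.Scheme.Modules

namespace Groth.Agent.H22.FPExt

open Groth.Agent.H37.FPExt_R1 Groth.Agent.H17.FPExt_R2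

variable {X : Scheme.{u}}

theorem fp_epi_iso_on [CompactSpace X] [QuasiSeparatedSpace X] (F : X.Modules)
    [F.IsQuasicoherent] (hF : CohB1.IsFT F) (U : X.Opens)
    (hU : IsCompact (U : Set X)) (hFU : CohB1.IsFP (F.restrict U.ι)) :
    ∃ (G : X.Modules) (φ : G ⟶ F), CohB1.IsFP G ∧ Epi φ ∧
      IsIso ((Scheme.Modules.restrictFunctor U.ι).map φ) := by
  obtain ⟨G₀, φ₀, hG₀, hφ₀⟩ := Groth.Agent.H89.FPExt_Q2.exists_fp_epi_of F hF
    (fun V hV s => Groth.Agent.H30.FPExt_Q1.exists_fp_through_section_of F V hV s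
      (fun U hU G hG φ => Groth.Agent.S2115.result X F ‹F.IsQuasicoherent› U hU G hG φ))
    Groth.Agent.H37.FPExt_Q3.isFP_biprod
  haveI := hφ₀
  haveI : SheafOfModules.IsFinitePresentation (R := X.ringCatSheaf) G₀ := hG₀
  haveI : G₀.IsQuasicoherent := inferInstance
  have hG₀ft : CohB1.IsFT G₀ := (inferInstance : SheafOfModules.IsFiniteType (R := X.ringCatSheaf) G₀)
  haveI : (kernel φ₀).IsQuasicoherent := Groth.Agent.H22.QCohLimits.isQuasicoherent_kernel φ₀
  haveI : Coh.IsQCoh (kernel φ₀) := ‹(kernel φ₀).IsQuasicoherent›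
  have hKU : CohB1.IsFT ((kernel φ₀).restrict U.ι) := isFT_restrict_kernel φ₀ hG₀ft U hFU
  haveI : Coh.IsQCoh ((kernel φ₀).restrict U.ι) :=
    (inferInstance : ((kernel φ₀).restrict U.ι).IsQuasicoherent)
  obtain ⟨K', i, e, hmono, hK'q, hK'ft, hcomp⟩ :=
    Groth.Agent.S10848.result U hU (kernel φ₀) ((kernel φ₀).restrict U.ι) hKU (𝟙 _)
  haveI : K'.IsQuasicoherent := hK'q
  have hi : IsIso ((restrictFunctor U.ι).map i) := by
    have : (restrictFunctor U.ι).map i = e.hom := by rw [← hcomp, Category.comp_id]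
    rw [this]; infer_instance
  haveI : PreservesFiniteLimits (restrictFunctor U.ι) :=
    Groth.Agent.H42.CmpLib.preservesFiniteLimits_restrictFunctor U.ι
  haveI : PreservesFiniteColimits (restrictFunctor U.ι) :=
    ⟨fun _ _ _ => (restrictAdjunction U.ι).leftAdjoint_preservesColimits.preservesColimitsOfShape⟩
  haveI : (restrictFunctor U.ι).Additive := Functor.additive_of_preserves_binary_products _
  refine ⟨cokernel (i ≫ kernel.ι φ₀), cokernel.desc (i ≫ kernel.ι φ₀) φ₀ (by simp),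
    Groth.Agent.H37.FPExt_Q5.isFP_cokernel_of_isFT hK'ft hG₀ _, ?_,
    isIso_map_cokernel_desc (restrictFunctor U.ι) φ₀ i hi⟩
  have h1 : cokernel.π (i ≫ kernel.ι φ₀) ≫ cokernel.desc (i ≫ kernel.ι φ₀) φ₀ (by simp) = φ₀ :=
    cokernel.π_desc _ _ _
  exact epi_of_epi_fac h1

end Groth.Agent.H22.FPExt
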